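import Groth.Agent.L12.Versal
import Groth.Agent.L12.SurjCrit

/-!
# Semismall versal prolongations of an element versal for small prolongations of the base point
-/

universe u v

open CategoryTheory ArtFun ArtFun.Art IsLocalRing Groth.L12

namespace Groth.L28

variable {Λ : Type u} {k : Type u} [CommRing Λ] [Field k] [Algebra Λ k] {F : Art Λ k ⥤ Type v}

lemma isSmallExt_toBase_dual : IsSmallExt (toBase (dual Λ k)) := by
  let ε : dual Λ k := (DualNumber.eps : DualNumber k)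
  refine isSmallExt_of_gen (toBase_surjective _) (t := ε) ?_ ?_ ?_
  · intro h
    exact one_ne_zero (congrArg TrivSqZeroExt.snd h : (1 : k) = 0)
  · ext x
    rw [RingHom.mem_ker, Ideal.mem_span_singleton']
    constructor
    · intro hx
      let c : dual Λ k := (TrivSqZeroExt.inl (TrivSqZeroExt.snd x) : DualNumber k)
      refine ⟨c, TrivSqZeroExt.ext ?_ ?_⟩
      · change TrivSqZeroExt.snd x * (0 : k) = TrivSqZeroExt.fst x
        rw [mul_zero]
        exact (show TrivSqZeroExt.fst x = 0 from hx).symm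
      · change TrivSqZeroExt.snd x • (1 : k) + MulOpposite.op (0 : k) • (0 : k) = TrivSqZeroExt.snd x
        simp
    · rintro ⟨a, rfl⟩
      change TrivSqZeroExt.fst a * (0 : k) = 0
      simp
  · intro a ha
    have h : TrivSqZeroExt.fst a = 0 := ((dual Λ k).mem_maximalIdeal_iff a).1 ha
    refine TrivSqZeroExt.ext ?_ ?_
    · change TrivSqZeroExt.fst a * (0 : k) = 0
      simp
    · change TrivSqZeroExt.fst a • (1 : k) + MulOpposite.op (0 : k) • TrivSqZeroExt.snd a = 0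
      rw [h]
      simp

/-- correcting a lift by a tangent vector -/
theorem exists_map_over (h0 : H0 F) (h1 : S1 F) (h2 : Heps F) {R R₁ R' : Art Λ k} (π₁ : R₁ ⟶ R)
    (hπ : IsSmallExt π₁) (g : R' ⟶ R) (a : F.obj R) (a₁ : F.obj R₁) (a' : F.obj R')
    (e₁ : F.map π₁ a₁ = a) (e' : F.map g a' = a)
    (hvers : ∀ R₀ : Art Λ k, IsSmallExt (toBase R₀) → ∀ b : F.obj R₀, ∃ φ : R ⟶ R₀, F.map φ a = b)
    (f : R' ⟶ R₁) (hf : f ≫ π₁ = g) : ∃ f' : R' ⟶ R₁, f' ≫ π₁ = g ∧ F.map f' a' = a₁ := by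
  obtain ⟨S⟩ := nonempty_smallSquare hπ
  obtain ⟨w, hw₁, hw₂⟩ := S.exists_over (F := F)
    (fun _ _ _ _ p' p'' f' f'' hh hs => h1 p' p'' f' f'' hh hs.1) (F.map f a') a₁
    (by rw [map_map, hf, e', e₁])
  obtain ⟨φ, hφ⟩ := hvers _ isSmallExt_toBase_dual (F.map S.g w)
  obtain ⟨l, hl₁, hl₂⟩ := IsFP.exists_lift S.hPg f (g ≫ φ) ((eq_toBase _).trans (eq_toBase _).symm)
  have hw : F.map l a' = w := S.ext_act h2 (by rw [map_map, hl₁, hw₁])
    (by rw [map_map, hl₂, ← map_map, e', hφ])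
  refine ⟨l ≫ S.p₂, ?_, by rw [← map_map, hw, hw₂]⟩
  rw [Category.assoc, ← S.p₂_p, ← Category.assoc, hl₁, hf]

section cotangent

/-- the relative square of the maximal ideal -/
noncomputable def relSq (Λ : Type u) [CommRing Λ] [IsLocalRing Λ] (A : Type u) [CommRing A]
    [IsLocalRing A] [Algebra Λ A] : Ideal A :=
  maximalIdeal A ^ 2 ⊔ (maximalIdeal Λ).map (algebraMap Λ A)

variable [IsLocalRing Λ]

lemma algebraMap_eq_zero_of_mem (hk : Function.Surjective (algebraMap Λ k)) {l : Λ}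
    (hl : l ∈ maximalIdeal Λ) : algebraMap Λ k l = 0 := by
  rw [← RingHom.mem_ker, IsLocalRing.eq_maximalIdeal (RingHom.ker_isMaximal_of_surjective _ hk)]
  exact hl

/-- a coefficient ring, formally smooth, surjecting onto an object with the same relative cotangent space -/
theorem exists_minimal_cover [IsNoetherianRing Λ] (hk : Function.Surjective (algebraMap Λ k)) (R : Art Λ k) :
    ∃ (P : CRing Λ k) (π : HomSet P.carrier P.res R), IsSmoothFunctor (hR P.carrier P.res) ∧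
      Function.Surjective π.1 ∧
      ∀ p ∈ maximalIdeal P.carrier, π.1 p ∈ relSq Λ R → p ∈ relSq Λ P.carrier := by
  classical
  set N := relSq Λ R with hN
  have hex : ∃ n, ∃ s : Finset R, s.card = n ∧ (∀ y ∈ s, y ∈ maximalIdeal R) ∧
      maximalIdeal R ≤ Ideal.span (s : Set R) ⊔ N := by
    obtain ⟨s, hs⟩ := (IsNoetherian.noetherian (maximalIdeal R) : (maximalIdeal R).FG)
    exact ⟨_, s, rfl, fun y hy => hs ▸ Ideal.subset_span hy, le_sup_of_le_left hs.ge⟩
  obtain ⟨s, hsc, hsm, hsp⟩ := Nat.find_spec hex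
  have hmin : ∀ y₀ ∈ s, y₀ ∉ Ideal.span ((s.erase y₀ : Finset R) : Set R) ⊔ N := fun y₀ hy₀ h => by
    refine Nat.find_min hex (m := (s.erase y₀).card) ?_ ⟨_, rfl, fun y hy => hsm y (Finset.mem_of_mem_erase hy),
      hsp.trans (sup_le (Ideal.span_le.2 fun y hy => ?_) le_sup_right)⟩
    · rw [← hsc]; exact Finset.card_erase_lt_of_mem hy₀
    · rcases eq_or_ne y y₀ with rfl | hne
      · exact h
      · exact Ideal.mem_sup_left (Ideal.subset_span (Finset.mem_erase.2 ⟨hne, hy⟩))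
  have hc : Function.Surjective
      (MvPolynomial.aeval (fun _ : (s : Set R) => (0 : k)) : MvPolynomial (s : Set R) Λ →ₐ[Λ] k) := fun t => by
    obtain ⟨l, rfl⟩ := hk t
    exact ⟨MvPolynomial.C l, MvPolynomial.aeval_C _ _⟩
  obtain ⟨P, x, hx, hP⟩ := exists_free_cring (ι := (s : Set R)) _ hc
  obtain ⟨π, hπ⟩ := hP.lift R (fun y => y.1) fun y => by rw [hx, ← R.mem_maximalIdeal_iff]; exact hsm y.1 y.2
  have hmΛ : (maximalIdeal Λ).map (algebraMap Λ P.carrier) ≤ maximalIdeal P.carrier :=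
    Ideal.map_le_iff_le_comap.2 fun l hl => by
      rw [Ideal.mem_comap, CRing.mem_maximalIdeal_iff, AlgHom.commutes, algebraMap_eq_zero_of_mem hk hl]
  have hxm : ∀ y, x y ∈ maximalIdeal P.carrier := fun y => (CRing.mem_maximalIdeal_iff P _).2 (hx y)
  have hsurj : Function.Surjective π.1 := by
    refine surjective_of_cotangent π.1 P.res_surjective (fun r => (R.mem_maximalIdeal_iff r).symm) π.2 ?_
    refine hsp.trans (sup_le (Ideal.span_le.2 fun y hy => ?_) (sup_le le_sup_right ?_))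
    · exact Ideal.mem_sup_left ((congrArg (fun z => z ∈ (maximalIdeal P.carrier).map π.1) (hπ ⟨y, hy⟩)).mp
        (Ideal.mem_map_of_mem _ (hxm ⟨y, hy⟩)))
    · refine le_sup_of_le_left ?_
      rw [← π.1.comp_algebraMap, ← Ideal.map_map]
      exact Ideal.map_mono hmΛ
  -- the maximal ideal of `P` is generated by the variables up to `relSq`
  set K := Ideal.span (Set.range x) ⊔ relSq Λ P.carrier with hK
  have hKm : K ≤ maximalIdeal P.carrier :=
    sup_le (Ideal.span_le.2 (Set.range_subset_iff.2 hxm)) (sup_le (Ideal.pow_le_self two_ne_zero) hmΛ)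
  have hmK : maximalIdeal P.carrier ≤ K := by
    obtain ⟨E, g, hg, hker⟩ := exists_quot_of_le (P.truncHom 1) (truncHom_surjective P 1) (K := K)
      (fun z hz => Ideal.mem_sup_right (Ideal.mem_sup_left (Ideal.Quotient.eq_zero_iff_mem.1 hz)))
      (hKm.trans_eq (cring_ker_eq P).symm)
    set χ := HomSet.map g (P.truncHom 1)
    have hΛ : ∀ l ∈ RingHom.ker (algebraMap Λ k), algebraMap Λ E l = 0 := fun l hl => by
      have hl' : l ∈ maximalIdeal Λ := by
        rwa [← IsLocalRing.eq_maximalIdeal (RingHom.ker_isMaximal_of_surjective (algebraMap Λ k) hk)]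
      rw [← χ.1.commutes, ← RingHom.mem_ker, hker]
      exact Ideal.mem_sup_right (Ideal.mem_sup_right (Ideal.mem_map_of_mem _ hl'))
    let σ₀ : k →ₐ[Λ] E := AlgHom.liftOfSurjective (Algebra.ofId Λ k) hk (Algebra.ofId Λ E) hΛ
    have hσ : E.res.comp σ₀ = AlgHom.id Λ k := AlgHom.ext fun t => by
      obtain ⟨l, rfl⟩ := hk t
      exact (E.res.comp σ₀).commutes l
    let σ : Art.base Λ k ⟶ E := ⟨σ₀, hσ⟩
    have he := hP.ext E χ (HomSet.map σ (basePt P.carrier P.res)) fun y => by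
      have h0 : χ.1 (x y) = 0 := by
        rw [← RingHom.mem_ker, hker]
        exact Ideal.mem_sup_left (Ideal.subset_span ⟨y, rfl⟩)
      rw [h0]
      change 0 = σ₀ (P.res (x y))
      rw [hx, map_zero]
    intro p hp
    rw [← hker, RingHom.mem_ker]
    refine (DFunLike.congr_fun (congrArg Subtype.val he) p).trans ?_
    change σ₀ (P.res p) = 0
    rw [(CRing.mem_maximalIdeal_iff P p).1 hp, map_zero]
  have hmapN : ∀ n ∈ relSq Λ P.carrier, π.1 n ∈ N := fun n hn => by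
    have h := Ideal.mem_map_of_mem π.1 hn
    rw [relSq, Ideal.map_sup, Ideal.map_pow] at h
    refine (sup_le (le_sup_of_le_left (Ideal.pow_right_mono (homSet_map_max π) 2)) ?_) h
    change Ideal.map (π.1 : P.carrier →+* R) _ ≤ _
    rw [Ideal.map_map, π.1.comp_algebraMap]
    exact le_sup_right
  refine ⟨P, π, hP.smooth, hsurj, fun p hp hpN => ?_⟩
  obtain ⟨z, hz, n, hn, rfl⟩ := Submodule.mem_sup.1 (hmK hp)
  obtain ⟨c, rfl⟩ := (Submodule.mem_span_range_iff_exists_fun P.carrier).1 hz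
  have hzN : ∑ y, π.1 (c y) * y.1 ∈ N := by
    have := sub_mem hpN (hmapN n hn)
    rw [map_add, add_sub_cancel_right, map_sum] at this
    simpa [hπ] using this
  refine add_mem (Ideal.sum_mem _ fun y _ => ?_) hn
  refine Ideal.mem_sup_left ?_
  rw [smul_eq_mul, pow_two]
  refine Ideal.mul_mem_mul ?_ (hxm y)
  rw [CRing.mem_maximalIdeal_iff]
  by_contra hne
  have hu : IsUnit (π.1 (c y)) := (isUnit_iff_res_ne_zero R _).2 (by rwa [← AlgHom.comp_apply, π.2])
  refine hmin y.1 y.2 (((Ideal.unit_mul_mem_iff_mem _ hu)).1 ?_)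
  rw [← Finset.add_sum_erase _ _ (Finset.mem_univ y)] at hzN
  rw [show π.1 (c y) * y.1 = (π.1 (c y) * y.1 + ∑ y' ∈ Finset.univ.erase y, π.1 (c y') * y'.1) -
      ∑ y' ∈ Finset.univ.erase y, π.1 (c y') * y'.1 from (add_sub_cancel_right _ _).symm]
  refine sub_mem (Ideal.mem_sup_right hzN) (Ideal.sum_mem _ fun y' hy' => ?_)
  exact Ideal.mem_sup_left (Ideal.mul_mem_left _ _ (Ideal.subset_span
    (Finset.mem_erase.2 ⟨fun e => (Finset.mem_erase.1 hy').1 (Subtype.ext e), y'.2⟩)))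

end cotangent

/-- semismall versal prolongation -/
theorem exists_versal_prolongation [IsLocalRing Λ] [IsNoetherianRing Λ]
    (hk : Function.Surjective (algebraMap Λ k)) (h0 : H0 F) (h1 : S1 F) (h2 : Heps F)
    (R : Art Λ k) (a : F.obj R)
    (hvers : ∀ R₀ : Art Λ k, IsSmallExt (toBase R₀) → ∀ b : F.obj R₀, ∃ φ : R ⟶ R₀, F.map φ a = b) :
    ∃ (R' : Art Λ k) (q : R' ⟶ R) (a' : F.obj R'), F.map q a' = a ∧ IsSemismallExt q ∧
      (∀ x' : R', x' ∈ maximalIdeal (R' : Type u) → q x' ∈ relSq Λ R → x' ∈ relSq Λ R') ∧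
      ∀ (R₁ : Art Λ k) (π₁ : R₁ ⟶ R), IsSmallExt π₁ →
        ∀ a₁ : F.obj R₁, F.map π₁ a₁ = a → ∃ f : R' ⟶ R₁, f ≫ π₁ = q ∧ F.map f a' = a₁ := by
  obtain ⟨P, π, hP, hπs, hπN⟩ := exists_minimal_cover hk R
  obtain ⟨T, q, hq, hqη, hM, hmin⟩ := exists_next P h1 ⟨R, π, hπs, a⟩
  have hq' : ∀ p, q (T.π.1 p) = π.1 p := fun p => DFunLike.congr_fun (congrArg Subtype.val hq) p
  have hres : ∀ p, T.A.res (T.π.1 p) = P.res p := fun p => DFunLike.congr_fun T.π.2 p
  have hqs : Function.Surjective q := fun r => by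
    obtain ⟨p, rfl⟩ := hπs r
    exact ⟨_, hq' p⟩
  refine ⟨T.A, q, T.η, hqη, ⟨hqs, ?_⟩, fun x hx hxN => ?_, fun R₁ π₁ hs a₁ e₁ => ?_⟩
  · rw [eq_bot_iff, Ideal.mul_le]
    intro u hu w hw
    obtain ⟨u, rfl⟩ := T.surj u
    obtain ⟨w, rfl⟩ := T.surj w
    rw [Ideal.mem_bot, ← map_mul, ← RingHom.mem_ker]
    refine hM (Ideal.mul_mem_mul ((CRing.mem_maximalIdeal_iff P u).2 ?_) ?_)
    · rw [← hres]; exact (T.A.mem_maximalIdeal_iff _).1 hu
    · rw [RingHom.mem_ker, ← hq']; exact hw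
  · obtain ⟨p, rfl⟩ := T.surj x
    have hp : p ∈ maximalIdeal P.carrier :=
      (CRing.mem_maximalIdeal_iff P p).2 (by rw [← hres]; exact (T.A.mem_maximalIdeal_iff _).1 hx)
    have h := Ideal.mem_map_of_mem T.π.1 (hπN p hp (hq' p ▸ hxN))
    rw [relSq, Ideal.map_sup, Ideal.map_pow] at h
    refine (sup_le (le_sup_of_le_left (Ideal.pow_right_mono (homSet_map_max T.π) 2)) ?_) h
    change Ideal.map (T.π.1 : P.carrier →+* T.A) _ ≤ _
    rw [Ideal.map_map, T.π.1.comp_algebraMap]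
    exact le_sup_right
  · suffices ∃ f : T.A ⟶ R₁, f ≫ π₁ = q by
      obtain ⟨f, hf⟩ := this
      exact exists_map_over h0 h1 h2 π₁ hs q a a₁ T.η e₁ hqη hvers f hf
    obtain ⟨χ, hχ⟩ : ∃ χ : HomSet P.carrier P.res R₁, HomSet.map π₁ χ = π := hP π₁ hs.1 π
    have hmK : maximalIdeal P.carrier * RingHom.ker π.1 ≤ RingHom.ker χ.1 := by
      rw [Ideal.mul_le]
      intro u hu w hw
      rw [RingHom.mem_ker, map_mul]
      refine IsSemismall.mul_eq_zero hs.isSemismallExt (homSet_map_max χ (Ideal.mem_map_of_mem _ hu)) ?_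
      exact (DFunLike.congr_fun (congrArg Subtype.val hχ) w).trans (RingHom.mem_ker.1 hw)
    rcases ker_eq_or_section hs χ (hχ.symm ▸ hπs) with hsurj | hker
    · have hle := hmin _ hmK ⟨R₁, χ, π₁, a₁, hsurj, rfl, hχ, e₁⟩
      obtain ⟨w, hw⟩ := exists_desc_homSet T.π T.surj χ hle
      exact ⟨w, homSet_cancel T.π T.surj (((HomSet.map_map w π₁ T.π).symm.trans
        ((congrArg (HomSet.map π₁) hw).trans hχ)).trans hq.symm)⟩
    · rw [hχ] at hker
      obtain ⟨s, hs'⟩ := exists_desc_homSet π hπs χ hker.ge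
      have hsec : s ≫ π₁ = 𝟙 R := homSet_cancel π hπs (((HomSet.map_map s π₁ π).symm.trans
        ((congrArg (HomSet.map π₁) hs').trans hχ)).trans (Subtype.ext (AlgHom.ext fun _ => rfl)))
      exact ⟨q ≫ s, by rw [Category.assoc, hsec, Category.comp_id]⟩

end Groth.L28
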